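import Groth.Prelude.Def_Wider
import Groth.Agent.S5168
import Groth.Agent.S11662
import Groth.Agent.Localalg.InjHull
import Groth.Agent.Localalg.LCIface
import Groth.Agent.Goren.K710.TopHull
import Mathlib.RingTheory.Artinian.Ring

/-!
# Injective hulls of the residue field as unions of Gorenstein Artinian quotients

* `nonempty_equiv_torsionBy`: if `R/a` is Gorenstein of dimension zero and `E` is an injective hull of
  the residue field then `R/a ≃ E[a]`.
* `exists_hull_of_tower`: a module exhausted by submodules `R/a_n` of this kind, `a_n` cofinal with the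
  powers of the maximal ideal, is an injective hull of the residue field.
-/

set_option autoImplicit false
universe u
open IsLocalRing

namespace K710.HullTower

variable (R : Type u) [CommRing R] [IsLocalRing R] [IsNoetherianRing R]

theorem nonempty_equiv_torsionBy (a : Ideal R) (hG : LocCoh.IsGorensteinLocalRing (R ⧸ a))
    (h0 : ringKrullDim (R ⧸ a) = 0) (E : Type u) [AddCommGroup E] [Module R E]
    (f : ResidueField R →ₗ[R] E) (hf : InjHull.IsInjectiveHull f) :
    Nonempty ((R ⧸ a) ≃ₗ[R] LocCoh.torsionBy a E) := by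
  have hloc : IsLocalHom (Ideal.Quotient.mk a) :=
    IsLocalHom.of_surjective _ Ideal.Quotient.mk_surjective
  have hbij : Function.Bijective (ResidueField.map (Ideal.Quotient.mk a)) := by
    refine ⟨RingHom.injective _, fun y => ?_⟩
    obtain ⟨y, rfl⟩ := IsLocalRing.residue_surjective y
    obtain ⟨y, rfl⟩ := Ideal.Quotient.mk_surjective y
    exact ⟨residue R y, ResidueField.map_residue _ _⟩
  let e0 : ResidueField R →ₗ[R] ResidueField (R ⧸ a) :=
    { toFun := ResidueField.map (Ideal.Quotient.mk a)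
      map_add' := fun x y => map_add _ x y
      map_smul' := fun r x => by
        obtain ⟨x, rfl⟩ := IsLocalRing.residue_surjective x
        have h1 : r • residue R x = residue R (r * x) := by
          rw [map_mul]; rfl
        rw [h1, ResidueField.map_residue, ResidueField.map_residue, map_mul, map_mul]
        rfl }
  let e : ResidueField (R ⧸ a) ≃ₗ[R] ResidueField R := (LinearEquiv.ofBijective e0 hbij).symm
  have hf' := Groth.Agent.Localalg.InjHull.isInjectiveHull_comp_equiv hf e
  obtain ⟨g, hg, -⟩ := Groth.Agent.S11662.result R a (ResidueField (R ⧸ a)) E _ hf'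
  obtain ⟨φ⟩ := K710.TopHull.nonempty_equiv (R ⧸ a) (LocCoh.torsionBy a E) g hg 0 h0
  have hart : IsNilpotent (maximalIdeal (R ⧸ a)) := by
    have h1 : Ring.KrullDimLE 0 (R ⧸ a) := Ring.krullDimLE_iff.2 (by rw [h0]; rfl)
    have h2 : IsArtinianRing (R ⧸ a) := isArtinianRing_iff_isNoetherianRing_krullDimLE_zero.2
      ⟨inferInstance, h1⟩
    have h3 := IsArtinianRing.isNilpotent_jacobson_bot (R := R ⧸ a)
    rwa [IsLocalRing.jacobson_eq_maximalIdeal ⊥ bot_ne_top] at h3
  obtain ⟨N, hN⟩ := hart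
  have ht : LocCoh.IsPowerTorsion (maximalIdeal (R ⧸ a)) (R ⧸ a) := fun x =>
    ⟨N, fun b hb => by
      rw [hN] at hb
      rw [show b = 0 from hb, zero_smul]⟩
  obtain ⟨ψ⟩ := Groth.Agent.Localalg.LCIface.nonempty_H0 (maximalIdeal (R ⧸ a)) (R ⧸ a) ht
  exact ⟨(ψ.symm.trans φ).restrictScalars R⟩

/-- elements killed by the maximal ideal come from the residue field -/
theorem mem_range_of_killed (E : Type u) [AddCommGroup E] [Module R E]
    (f : ResidueField R →ₗ[R] E) (hf : InjHull.IsInjectiveHull f) (y : E)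
    (hy : ∀ b ∈ maximalIdeal R, b • y = 0) : ∃ c, f c = y := by
  by_cases h0 : y = 0
  · exact ⟨0, by rw [map_zero, h0]⟩
  obtain ⟨r, hr0, c, hc⟩ := (Groth.Agent.Localalg.InjHull.isEssentialInj_iff.mp
    hf.toIsEssentialInj).2 y h0
  have hu : IsUnit r := by
    by_contra h
    exact hr0 (hy r ((mem_maximalIdeal r).2 h))
  obtain ⟨u, rfl⟩ := hu
  refine ⟨(↑u⁻¹ : R) • c, ?_⟩
  rw [map_smul, hc, smul_smul, Units.inv_mul, one_smul]

theorem exists_hull_of_tower (E : Type u) [AddCommGroup E] [Module R E]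
    (f : ResidueField R →ₗ[R] E) (hf : InjHull.IsInjectiveHull f)
    (L : Type u) [AddCommGroup L] [Module R L]
    (a : ℕ → Ideal R) (lam : ℕ → (R →ₗ[R] L)) (hker : ∀ n, LinearMap.ker (lam n) = a n)
    (hmono : ∀ n, LinearMap.range (lam n) ≤ LinearMap.range (lam (n + 1)))
    (hcov : ∀ y : L, ∃ n, y ∈ LinearMap.range (lam n))
    (hE : ∀ n, Nonempty ((R ⧸ a n) ≃ₗ[R] LocCoh.torsionBy (a n) E))
    (hle : ∀ n, a n ≤ maximalIdeal R)
    (hpow : ∀ n, ∃ k, maximalIdeal R ^ k ≤ a n)
    (hcof : ∀ k, ∃ N, ∀ n, N ≤ n → a n ≤ maximalIdeal R ^ k) :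
    ∃ g : ResidueField R →ₗ[R] L, InjHull.IsInjectiveHull g := by
  have hmon : Monotone fun n => LinearMap.range (lam n) := monotone_nat_of_le_succ hmono
  have hkill : ∀ n, ∀ b ∈ a n, ∀ y ∈ LinearMap.range (lam n), b • y = 0 := by
    rintro n b hb _ ⟨r, rfl⟩
    rw [← map_smul, ← LinearMap.mem_ker, hker, smul_eq_mul]
    exact Ideal.mul_mem_right _ _ hb
  have hψ : ∀ n, Nonempty (LinearMap.range (lam n) ≃ₗ[R] LocCoh.torsionBy (a n) E) := fun n => by
    obtain ⟨e⟩ := hE n
    exact ⟨((lam n).quotKerEquivRange.symm.trans (Submodule.quotEquivOfEq _ _ (hker n))).trans e⟩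
  have ψ : ∀ n, LinearMap.range (lam n) ≃ₗ[R] LocCoh.torsionBy (a n) E := fun n => (hψ n).some
  have htor : LocCoh.IsPowerTorsion (maximalIdeal R) L := by
    intro y
    obtain ⟨n, hn⟩ := hcov y
    obtain ⟨k, hk⟩ := hpow n
    exact ⟨k, fun b hb => hkill n b (hk hb) y hn⟩
  have hinj : Module.Injective R L := by
    rw [Groth.Agent.S5168.result R (maximalIdeal R) L htor]
    intro M _ _ hMf ⟨k, hk⟩ N g
    have hnoeth : IsNoetherian R M := isNoetherian_of_isNoetherianRing_of_finite R M
    have hfg : (LinearMap.range g).FG := by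
      rw [LinearMap.range_eq_map]
      exact Submodule.FG.map g (IsNoetherian.noetherian (⊤ : Submodule R N))
    obtain ⟨S, hS⟩ := hfg
    choose ν hν using hcov
    obtain ⟨K, hK⟩ := hcof k
    set n := max (S.sup ν) K with hn
    have hgn : ∀ x, g x ∈ LinearMap.range (lam n) := by
      intro x
      have h1 : Submodule.span R (S : Set L) ≤ LinearMap.range (lam n) := by
        rw [Submodule.span_le]
        intro y hy
        exact hmon (le_trans (Finset.le_sup hy) (le_max_left _ _)) (hν y)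
      rw [hS] at h1
      exact h1 ⟨x, rfl⟩
    let g1 : N →ₗ[R] LinearMap.range (lam n) := g.codRestrict _ hgn
    let g2 : N →ₗ[R] E := (LocCoh.torsionBy (a n) E).subtype ∘ₗ (ψ n).toLinearMap ∘ₗ g1
    obtain ⟨h, hh⟩ := hf.isInjective.out N.subtype N.injective_subtype g2
    have hmem : ∀ x, h x ∈ LocCoh.torsionBy (a n) E := by
      intro x
      rw [Submodule.mem_torsionBySet_iff]
      rintro ⟨b, hb⟩
      change b • h x = 0
      have : b • x = 0 := by
        have h2 : b • x ∈ (maximalIdeal R ^ k) • (⊤ : Submodule R M) :=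
          Submodule.smul_mem_smul (hK n (le_max_right _ _) hb) Submodule.mem_top
        rw [hk] at h2
        exact h2
      rw [← map_smul, this, map_zero]
    refine ⟨(LinearMap.range (lam n)).subtype ∘ₗ (ψ n).symm.toLinearMap ∘ₗ
      h.codRestrict _ hmem, ?_⟩
    ext x
    have h3 : (h.codRestrict (LocCoh.torsionBy (a n) E) hmem) (N.subtype x) = ψ n (g1 x) :=
      Subtype.ext (hh x)
    change (((ψ n).symm ((h.codRestrict (LocCoh.torsionBy (a n) E) hmem) (N.subtype x)) :
      LinearMap.range (lam n)) : L) = g x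
    rw [h3, LinearEquiv.symm_apply_apply]
    rfl
  have hfmem : ∀ n c, f c ∈ LocCoh.torsionBy (a n) E := by
    intro n c
    rw [Submodule.mem_torsionBySet_iff]
    rintro ⟨b, hb⟩
    change b • f c = 0
    have : b • c = 0 := by
      rw [Algebra.smul_def, ResidueField.algebraMap_eq, (residue_eq_zero_iff b).2 (hle n hb),
        zero_mul]
    rw [← map_smul, this, map_zero]
  let g : ResidueField R →ₗ[R] L := (LinearMap.range (lam 0)).subtype ∘ₗ (ψ 0).symm.toLinearMap ∘ₗ
    f.codRestrict _ (hfmem 0)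
  have hginj : Function.Injective g := by
    intro c c' h
    have h1 := (ψ 0).symm.injective (Subtype.ext h)
    exact hf.injective (congrArg Subtype.val h1)
  have hkilled : ∀ c : ResidueField R, ∀ b ∈ maximalIdeal R, b • c = 0 := by
    intro c b hb
    rw [Algebra.smul_def, ResidueField.algebraMap_eq, (residue_eq_zero_iff b).2 hb, zero_mul]
  refine ⟨g, { toIsEssentialInj := ?_, isInjective := hinj }⟩
  rw [Groth.Agent.Localalg.InjHull.isEssentialInj_iff]
  refine ⟨hginj, fun y hy => ?_⟩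
  obtain ⟨n, hn⟩ := hcov y
  -- the image of `y`
  have hy1 : ((ψ n ⟨y, hn⟩ : LocCoh.torsionBy (a n) E) : E) ≠ 0 := by
    intro h
    have h1 : ψ n ⟨y, hn⟩ = 0 := Subtype.ext h
    rw [LinearEquiv.map_eq_zero_iff] at h1
    exact hy (congrArg Subtype.val h1)
  obtain ⟨r, hr0, c, hc⟩ := (Groth.Agent.Localalg.InjHull.isEssentialInj_iff.mp
    hf.toIsEssentialInj).2 _ hy1
  -- the image of `g 1`
  have hw : g 1 ∈ LinearMap.range (lam n) :=
    hmon (Nat.zero_le n) ((ψ 0).symm (f.codRestrict _ (hfmem 0) 1)).2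
  have hw0 : g 1 ≠ 0 := fun h => one_ne_zero (hginj (by rw [h, map_zero]))
  obtain ⟨c', hc'⟩ := mem_range_of_killed R E f hf ((ψ n ⟨g 1, hw⟩ : LocCoh.torsionBy (a n) E) : E) (by
    intro b hb
    have h1 : b • (⟨g 1, hw⟩ : LinearMap.range (lam n)) = 0 := by
      apply Subtype.ext
      change b • g 1 = 0
      rw [← map_smul, hkilled 1 b hb, map_zero]
    have h2 : b • ψ n ⟨g 1, hw⟩ = 0 := by rw [← map_smul, h1, map_zero]
    exact congrArg Subtype.val h2)
  have hc'0 : c' ≠ 0 := by
    rintro rfl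
    rw [map_zero] at hc'
    have h1 : ψ n ⟨g 1, hw⟩ = 0 := Subtype.ext hc'.symm
    rw [LinearEquiv.map_eq_zero_iff] at h1
    exact hw0 (congrArg Subtype.val h1)
  obtain ⟨s, hs⟩ := residue_surjective (c / c')
  have hcs : c = s • c' := by
    rw [Algebra.smul_def, ResidueField.algebraMap_eq, hs, div_mul_cancel₀ _ hc'0]
  have hfin : r • y = g (s • 1) := by
    have h1 : ψ n (r • ⟨y, hn⟩) = ψ n (s • ⟨g 1, hw⟩) := by
      apply Subtype.ext
      rw [map_smul, map_smul]
      change r • ((ψ n ⟨y, hn⟩ : LocCoh.torsionBy (a n) E) : E) =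
        s • ((ψ n ⟨g 1, hw⟩ : LocCoh.torsionBy (a n) E) : E)
      rw [← hc, ← hc', hcs, map_smul]
    have h2 := congrArg Subtype.val ((ψ n).injective h1)
    rw [map_smul]
    exact h2
  refine ⟨r, fun h => hr0 ?_, s • 1, hfin.symm⟩
  have h1 : r • (⟨y, hn⟩ : LinearMap.range (lam n)) = 0 := Subtype.ext h
  have h2 : r • ψ n ⟨y, hn⟩ = 0 := by rw [← map_smul, h1, map_zero]
  exact congrArg Subtype.val h2

end K710.HullTower
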