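import Groth.Prelude.Def_Wider
import Groth.Agent.LoccohB.RGammaTors
import Groth.Agent.LoccohB.RGammaHDI
import Groth.Agent.LoccohB.RGammaSup
import Groth.Agent.LoccohB.KInjD
import Groth.Agent.LoccohA.LCTComp
import Groth.Agent.LoccohB.DualShift
import Groth.Agent.Localalg.DGor
import Groth.Agent.Localalg.InjHull

/-!
# Rings whose local cohomology is a single injective module

If `H^i_m(A) = 0` for `i ≠ d` and `H^d_m(A)` is injective, then `Ext^i(k, A) = 0` for `i > d`.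
-/

set_option autoImplicit false
universe u
open CategoryTheory
attribute [local instance] HasDerivedCategory.standard

namespace K710.LcInj

open Groth.Agent.LoccohB

variable {A : Type u} [CommRing A]

/-- `Hom(X[n], Y) ≃ Hom(X, Y[-n])`-type statement for subsingletons. -/
theorem subsingleton_shift_left (X Y : Dual.D A) (n m : ℤ) (h : n + m = 0)
    (hs : Subsingleton (X⟦n⟧ ⟶ Y)) : Subsingleton (X ⟶ Y⟦m⟧) := by
  have e1 : (X⟦n⟧ ⟶ Y) ≃ ((X⟦n⟧)⟦m⟧ ⟶ Y⟦m⟧) := DualShift.homShiftBoth (X⟦n⟧) Y m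
  have e2 : ((X⟦n⟧)⟦m⟧ ⟶ Y⟦m⟧) ≃ (X ⟶ Y⟦m⟧) :=
    ((shiftFunctorCompIsoId (Dual.D A) n m h).app X).homCongr (Iso.refl _)
  exact (e1.trans e2).symm.subsingleton

theorem subsingleton_shift_right (X Y : Dual.D A) (n m : ℤ) (h : n + m = 0)
    (hs : Subsingleton (X ⟶ Y⟦m⟧)) : Subsingleton (X⟦n⟧ ⟶ Y) := by
  have e1 : (X⟦n⟧ ⟶ Y) ≃ ((X⟦n⟧)⟦m⟧ ⟶ Y⟦m⟧) := DualShift.homShiftBoth (X⟦n⟧) Y m
  have e2 : ((X⟦n⟧)⟦m⟧ ⟶ Y⟦m⟧) ≃ (X ⟶ Y⟦m⟧) :=
    ((shiftFunctorCompIsoId (Dual.D A) n m h).app X).homCongr (Iso.refl _)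
  exact (e1.trans e2).subsingleton

/-- A module of `I`-power torsion, in degree `0`, is a torsion object. -/
theorem isTors_inD (I : Ideal A) (T : Type u) [AddCommGroup T] [Module A T]
    (hT : LocCoh.IsPowerTorsion I T) : RGammaTors.IsTors I (Dual.inD A T) := by
  intro i
  by_cases hi : i = 0
  · subst hi
    exact RGammaTors.isPowerTorsion_of_iso I
      ((DerivedCategory.singleFunctorCompHomologyFunctorIso (ModuleCat.{u} A) 0).app
        (ModuleCat.of A T)).symm hT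
  · have h : Limits.IsZero ((DerivedCategory.homologyFunctor (ModuleCat.{u} A) i).obj
        (Dual.inD A T)) := by
      rcases lt_or_gt_of_ne hi with h | h
      · exact DerivedCategory.isZero_of_isGE _ 0 i h
      · exact DerivedCategory.isZero_of_isLE _ 0 i h
    have : Subsingleton (Dual.HD A (Dual.inD A T) i) := ModuleCat.subsingleton_of_isZero h
    exact fun x => ⟨0, fun a _ => Subsingleton.elim _ _⟩

theorem isTors_shift (I : Ideal A) (K : Dual.D A) (n : ℤ) (h : RGammaTors.IsTors I K) :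
    RGammaTors.IsTors I (K⟦n⟧) := fun i =>
  RGammaTors.isPowerTorsion_of_iso I (DualShift.shiftHD K n i (n + i) rfl).symm (h (n + i))

/-- `RΓ_I(M)` is the module `H^d_I(M)` in degree `d`, if the others vanish. -/
theorem exists_rgamma_iso [IsNoetherianRing A] (I : Ideal A) [DRing.HasRgammaI I] (M : Type u) [AddCommGroup M]
    [Module A M] (d : ℕ) (h : ∀ i : ℕ, i ≠ d → Subsingleton (LocCoh.H I i M)) :
    ∃ (N : ModuleCat.{u} A), Nonempty (N ≃ₗ[A] LocCoh.H I d M) ∧
      Nonempty ((DRing.RgammaI I).obj (Dual.inD A M) ≅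
        (DerivedCategory.singleFunctor (ModuleCat.{u} A) (d : ℤ)).obj N) := by
  have hge0 : ((DRing.RgammaI I).obj (Dual.inD A M)).IsGE 0 :=
    RGammaSup.isGE_rgamma I (Dual.inD A M) 0 inferInstance
  have key : ∀ i : ℤ, i ≠ d → Limits.IsZero ((DerivedCategory.homologyFunctor
      (ModuleCat.{u} A) i).obj ((DRing.RgammaI I).obj (Dual.inD A M))) := by
    intro i hi
    by_cases h0 : i < 0
    · exact DerivedCategory.isZero_of_isGE _ 0 i h0
    · obtain ⟨n, rfl⟩ := Int.eq_ofNat_of_zero_le (show 0 ≤ i by omega)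
      have h1 := h n (by omega)
      obtain ⟨e⟩ := RGammaHDI.hd_rgamma_equiv I (Dual.inD A M) (n : ℤ)
      have e2 := e.trans (Groth.Agent.LoccohA.LCTComp.Hequiv I n M).symm
      have := e2.toEquiv.subsingleton
      exact ModuleCat.isZero_of_subsingleton _
  have hge : ((DRing.RgammaI I).obj (Dual.inD A M)).IsGE (d : ℤ) := by
    rw [DerivedCategory.isGE_iff]
    intro i hi
    exact key i (by omega)
  have hle : ((DRing.RgammaI I).obj (Dual.inD A M)).IsLE (d : ℤ) := by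
    rw [DerivedCategory.isLE_iff]
    intro i hi
    exact key i (by omega)
  obtain ⟨N, ⟨e⟩⟩ := DerivedCategory.exists_iso_singleFunctor_obj_of_isGE_of_isLE
    ((DRing.RgammaI I).obj (Dual.inD A M)) (d : ℤ)
  refine ⟨N, ?_, ⟨e⟩⟩
  obtain ⟨e1⟩ := RGammaHDI.hd_rgamma_equiv I (Dual.inD A M) (d : ℤ)
  have e2 := e1.trans (Groth.Agent.LoccohA.LCTComp.Hequiv I d M).symm
  have e3 := ((DerivedCategory.homologyFunctor (ModuleCat.{u} A) (d : ℤ)).mapIso e).symm ≪≫
    Iso.refl _
  have e4 := ((DerivedCategory.singleFunctorCompHomologyFunctorIso (ModuleCat.{u} A) (d : ℤ)).app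
    N).symm
  exact ⟨((e4 ≪≫ e3).toLinearEquiv).trans e2⟩

/-- Maps `T → N[n]` of degree `n > 0` into an injective module vanish. -/
theorem subsingleton_hom_injective (T N : Type u) [AddCommGroup T] [Module A T] [AddCommGroup N]
    [Module A N] (hN : Module.Injective A N) (n : ℤ) (hn : n ≠ 0) :
    Subsingleton (Dual.inD A T ⟶ (Dual.inD A N)⟦n⟧) := by
  rcases lt_or_gt_of_ne hn with h | h
  · exact Groth.Agent.Localalg.DGor.subsingleton_hom_neg A T N n h
  · obtain ⟨m, rfl⟩ := Int.eq_ofNat_of_zero_le (show 0 ≤ n by omega)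
    rw [Groth.Agent.Localalg.DGor.subsingleton_hom_iff]
    obtain ⟨k, rfl⟩ := Nat.exists_eq_succ_of_ne_zero (show m ≠ 0 by rintro rfl; exact hn rfl)
    have hI : Injective (ModuleCat.of A N) :=
      Module.injective_object_of_injective_module (inj := hN) A N
    exact ⟨fun x y => (Abelian.Ext.eq_zero_of_injective x).trans
      (Abelian.Ext.eq_zero_of_injective y).symm⟩

/-- `Ext^i(T, M) = 0` for torsion `T` and `i ≠ d`, if `H^d_I(M)` is injective and the others vanish. -/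
theorem subsingleton_ext [IsNoetherianRing A] (I : Ideal A) [DRing.HasRgammaI I] (M : Type u) [AddCommGroup M]
    [Module A M] (d : ℕ) (h : ∀ i : ℕ, i ≠ d → Subsingleton (LocCoh.H I i M))
    (hd : Module.Injective A (LocCoh.H I d M)) (T : Type u) [AddCommGroup T] [Module A T]
    (hT : LocCoh.IsPowerTorsion I T) (i : ℕ) (hi : i ≠ d) :
    Subsingleton (Abelian.Ext (ModuleCat.of A T) (ModuleCat.of A M) i) := by
  rw [← Groth.Agent.Localalg.DGor.subsingleton_hom_iff]
  apply subsingleton_shift_left _ _ (-(i : ℤ)) (i : ℤ) (by omega)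
  have hb := RGammaTors.comp_ε_bijective I (isTors_shift I (Dual.inD A T) (-(i : ℤ))
    (isTors_inD I T hT)) (Dual.inD A M)
  suffices hs : Subsingleton ((Dual.inD A T)⟦(-(i : ℤ))⟧ ⟶ (DRing.RgammaI I).obj (Dual.inD A M)) from
    (Equiv.ofBijective _ hb).symm.subsingleton
  apply subsingleton_shift_right _ _ (-(i : ℤ)) (i : ℤ) (by omega)
  obtain ⟨N, ⟨eN⟩, ⟨e⟩⟩ := exists_rgamma_iso I M d h
  have e1 : (DerivedCategory.singleFunctor (ModuleCat.{u} A) (d : ℤ)).obj N ≅
      ((Dual.inD A N)⟦(-(d : ℤ))⟧ : Dual.D A) :=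
    (((DerivedCategory.singleFunctors (ModuleCat.{u} A)).shiftIso (-(d : ℤ)) (d : ℤ) 0
      (by omega)).app N).symm
  have e2 : ((DRing.RgammaI I).obj (Dual.inD A M))⟦(i : ℤ)⟧ ≅
      (Dual.inD A N)⟦((i : ℤ) - d)⟧ :=
    (shiftFunctor (Dual.D A) (i : ℤ)).mapIso (e ≪≫ e1) ≪≫
      ((shiftFunctorAdd' (Dual.D A) (-(d : ℤ)) (i : ℤ) ((i : ℤ) - d) (by omega)).app
        (Dual.inD A N)).symm
  have hN : Module.Injective A N := Groth.Agent.Localalg.InjHull.injective_of_equiv hd eN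
  have := subsingleton_hom_injective T N hN ((i : ℤ) - d) (by omega)
  exact ((Iso.refl (Dual.inD A T)).homCongr e2).subsingleton

end K710.LcInj
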