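import Groth.Prelude.Def_Wider
import Groth.Agent.Models2.CIFlat
import Groth.Agent.Localalg.ExtLift

/-!
# Systems of parameters of a Cohen–Macaulay local ring

`x_1, …, x_d` a system of parameters of a Cohen–Macaulay local ring `R` of dimension `d`.
* `mem_of_mul_mem`: `x_j` is a non-zero-divisor modulo the other `x_i ^ e_i`.
* `mem_of_prod_pow_mul_mem`: if `(∏ x_i)^k r ∈ (x_1^(e_1+k), …, x_d^(e_d+k))` then
  `r ∈ (x_1^e_1, …, x_d^e_d)`.
-/

set_option autoImplicit false
universe u
open RingTheory.Sequence

namespace K710.Sop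

variable {R : Type u} [CommRing R] {d : ℕ} (x : Fin d → R)

/-- the ideal of the powers `x_i ^ e_i` -/
abbrev a (e : Fin d → ℕ) : Ideal R := Ideal.span (Set.range fun i => x i ^ e i)

/-- the ideal of the powers `x_i ^ e_i`, `i ≠ j` -/
abbrev b (e : Fin d → ℕ) (j : Fin d) : Ideal R :=
  Ideal.span ((fun i => x i ^ e i) '' {i | i ≠ j})

lemma mem_a_iff (e : Fin d → ℕ) (j : Fin d) (r : R) :
    r ∈ a x e ↔ ∃ c, ∃ z ∈ b x e j, r = c * x j ^ e j + z := by
  have h : Set.range (fun i => x i ^ e i) =
      insert (x j ^ e j) ((fun i => x i ^ e i) '' {i | i ≠ j}) := by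
    ext y
    constructor
    · rintro ⟨i, rfl⟩
      by_cases hi : i = j
      · subst hi; exact Set.mem_insert _ _
      · exact Set.mem_insert_of_mem _ ⟨i, hi, rfl⟩
    · rintro (rfl | ⟨i, -, rfl⟩)
      · exact ⟨j, rfl⟩
      · exact ⟨i, rfl⟩
  rw [a, h, Ideal.mem_span_insert]

lemma b_congr (e e' : Fin d → ℕ) (j : Fin d) (h : ∀ i, i ≠ j → e i = e' i) : b x e j = b x e' j := by
  have : (fun i => x i ^ e i) '' {i | i ≠ j} = (fun i => x i ^ e' i) '' {i | i ≠ j} :=
    Set.image_congr fun i hi => by rw [h i hi]
  rw [b, b, this]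

variable [hcm : LocCoh.IsCohenMacaulayLocalRing R]
variable (hd : ringKrullDim R = d)
  (hx : (Ideal.span (Set.range x)).radical = IsLocalRing.maximalIdeal R)

include hx in
lemma mem_max (i : Fin d) : x i ∈ IsLocalRing.maximalIdeal R := by
  rw [← hx]
  exact Ideal.le_radical (Ideal.subset_span ⟨i, rfl⟩)

include hx in
/-- primes containing powers of the `x_i` are maximal -/
lemma isMaximal_of_mem (P : Ideal R) [P.IsPrime] (h : ∀ i, x i ∈ P) : P.IsMaximal := by
  have h1 : IsLocalRing.maximalIdeal R ≤ P := by
    rw [← hx]
    rw [Ideal.IsPrime.radical_le_iff inferInstance]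
    rw [Ideal.span_le]
    rintro _ ⟨i, rfl⟩
    exact h i
  have h2 : P = IsLocalRing.maximalIdeal R :=
    le_antisymm (IsLocalRing.le_maximalIdeal (Ideal.IsPrime.ne_top inferInstance)) h1
  rw [h2]
  infer_instance

include hd hx in
/-- `x_j` is a non-zero-divisor modulo the other `x_i ^ e_i`. -/
theorem mem_of_mul_mem (e : Fin d → ℕ) (he : ∀ i, 1 ≤ e i) (j : Fin d) (r : R)
    (h : x j * r ∈ b x e j) : r ∈ b x e j := by
  classical
  set l : List R := ((Finset.univ.erase j).toList.map fun i => x i ^ e i) with hl
  have hlb : Ideal.ofList l = b x e j := by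
    rw [Ideal.ofList, b]
    congr 1
    ext y
    simp only [hl, List.mem_map, Finset.mem_toList, Finset.mem_erase, Finset.mem_univ, and_true,
      Set.mem_setOf_eq, Set.mem_image]
  have hlen : (l ++ [x j]).length = d := by
    rw [List.length_append, hl, List.length_map, Finset.length_toList, Finset.card_erase_of_mem
      (Finset.mem_univ j), Finset.card_univ, Fintype.card_fin, List.length_singleton]
    have := j.pos
    omega
  have hreg : IsWeaklyRegular R (l ++ [x j]) := by
    apply Groth.Agent.Models2.CIFlat.isWeaklyRegular_of_forall_prime hcm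
    · intro r hr
      rw [List.mem_append, List.mem_singleton] at hr
      rw [← mem_nonunits_iff, ← IsLocalRing.mem_maximalIdeal]
      rcases hr with hr | rfl
      · simp only [hl, List.mem_map] at hr
        obtain ⟨i, -, rfl⟩ := hr
        exact Ideal.pow_mem_of_mem _ (mem_max x hx i) _ (he i)
      · exact mem_max x hx j
    · rw [hlen, hd]
    · intro P hP hmem
      refine isMaximal_of_mem x hx P fun i => ?_
      by_cases hi : i = j
      · subst hi
        exact hmem _ (by simp)
      · exact hP.mem_of_pow_mem (e i) (hmem _ (by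
          rw [List.mem_append]
          left
          simp only [hl, List.mem_map, Finset.mem_toList, Finset.mem_erase, Finset.mem_univ,
            and_true]
          exact ⟨i, hi, rfl⟩))
  rw [isWeaklyRegular_append_iff, isWeaklyRegular_singleton_iff] at hreg
  have h2 := hreg.2
  have h3 : x j • (Submodule.Quotient.mk r : R ⧸ Ideal.ofList l • (⊤ : Submodule R R)) = 0 := by
    rw [← Submodule.Quotient.mk_smul, Submodule.Quotient.mk_eq_zero, smul_eq_mul, smul_eq_mul,
      Ideal.mul_top, hlb]
    exact h
  have h4 := h2.right_eq_zero_of_smul h3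
  rw [Submodule.Quotient.mk_eq_zero, smul_eq_mul, Ideal.mul_top, hlb] at h4
  exact h4

include hd hx in
theorem mem_of_pow_mul_mem (e : Fin d → ℕ) (he : ∀ i, 1 ≤ e i) (j : Fin d) (k : ℕ) (r : R)
    (h : x j ^ k * r ∈ b x e j) : r ∈ b x e j := by
  induction k generalizing r with
  | zero => simpa using h
  | succ k ih =>
    apply ih
    apply mem_of_mul_mem x hd hx e he j
    rw [← mul_assoc, ← pow_succ']
    exact h

include hd hx in
theorem step (e : Fin d → ℕ) (he : ∀ i, 1 ≤ e i) (j : Fin d) (k : ℕ) (r : R)
    (h : x j ^ k * r ∈ a x (Function.update e j (e j + k))) : r ∈ a x e := by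
  rw [mem_a_iff x _ j] at h ⊢
  obtain ⟨c, z, hz, h⟩ := h
  rw [b_congr x _ e j (fun i hi => Function.update_of_ne hi _ _)] at hz
  rw [Function.update_self] at h
  refine ⟨c, r - c * x j ^ e j, ?_, by ring⟩
  apply mem_of_pow_mul_mem x hd hx e he j k
  have : x j ^ k * (r - c * x j ^ e j) = z := by
    rw [mul_sub, h, pow_add]; ring
  rw [this]
  exact hz

include hd hx in
/-- monomial property of systems of parameters -/
theorem mem_of_prod_pow_mul_mem (e : Fin d → ℕ) (he : ∀ i, 1 ≤ e i) (k : ℕ) (r : R)
    (h : (∏ i, x i) ^ k * r ∈ a x (fun i => e i + k)) : r ∈ a x e := by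
  classical
  have key : ∀ s : Finset (Fin d), (∏ i ∈ s, x i) ^ k * r ∈
      a x (fun i => if i ∈ s then e i + k else e i) → r ∈ a x e := by
    intro s
    induction s using Finset.induction_on with
    | empty => intro h; simpa using h
    | insert j s hj ih =>
      intro h
      apply ih
      apply step x hd hx (fun i => if i ∈ s then e i + k else e i) ?_ j k
      · rw [Finset.prod_insert hj, mul_pow, mul_assoc] at h
        have h2 : Function.update (fun i => if i ∈ s then e i + k else e i) j
            ((if j ∈ s then e j + k else e j) + k) =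
            fun i => if i ∈ insert j s then e i + k else e i := by
          funext i
          by_cases hi : i = j
          · subst hi
            simp [hj]
          · rw [Function.update_of_ne hi]
            simp [hi]
        rw [h2]
        exact h
      · intro i
        have := he i
        split_ifs <;> omega
  apply key Finset.univ
  simpa using h

end K710.Sop
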