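import Groth.Prelude.Def_Wider
import Groth.Agent.S0364
import Groth.Agent.S0368
import Groth.Agent.S2218
import Groth.Agent.S2597
import Groth.Agent.Localalg.DDual
import Groth.Agent.Localalg.DGor
import Groth.Agent.Localalg.InjDim
import Groth.Agent.LoccohB.CMDual
import Groth.Agent.LoccohB.DualShift
import Groth.Agent.LoccohB.HomBC2
import Groth.Agent.LoccohB.GorDesc
import Mathlib.RingTheory.Ideal.UFD

/-!
# A Cohen–Macaulay factorial local ring with a dualizing complex is Gorenstein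

* `nonempty_equiv_of_ufd`: over a Noetherian factorial domain, a finite torsion-free module all of whose
  endomorphisms are scalars and into which maps from ideals of height at least two extend is free of
  rank one.
* `isGorensteinLocalRing_of_ufd`: the theorem.
-/

set_option autoImplicit false
universe u
open CategoryTheory
attribute [local instance] HasDerivedCategory.standard

namespace K710.UfdOmega

section Algebra

variable {A : Type u} [CommRing A] [IsDomain A]
  {W : Type u} [AddCommGroup W] [Module A W]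
  (htf : ∀ (r : A) (x : W), r • x = 0 → r = 0 ∨ x = 0)

include htf in
theorem injective_of_ne_zero (hend : ∀ u : W →ₗ[A] W, ∃ a : A, ∀ w, u w = a • w)
    (f : W →ₗ[A] A) (hf : f ≠ 0) : Function.Injective f := by
  obtain ⟨w₀, hw₀⟩ : ∃ w₀, f w₀ ≠ 0 := by
    by_contra h
    push Not at h
    exact hf (LinearMap.ext h)
  obtain ⟨a, ha⟩ := hend (f.smulRight w₀)
  have hw : w₀ ≠ 0 := fun h => hw₀ (by rw [h, map_zero])
  have h1 : f w₀ = a := by
    have h2 : (f w₀ - a) • w₀ = 0 := by
      rw [sub_smul, ← ha w₀, LinearMap.smulRight_apply, sub_self]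
    rcases htf _ _ h2 with h | h
    · exact sub_eq_zero.1 h
    · exact absurd h hw
  rw [injective_iff_map_eq_zero]
  intro w hfw
  have h3 := ha w
  rw [LinearMap.smulRight_apply, hfw, zero_smul] at h3
  rcases htf _ _ h3.symm with h | h
  · exact absurd (h1.trans h) hw₀
  · exact h

/-- divide a linear form with values in `(π)` by `π` -/
theorem exists_div (f : W →ₗ[A] A) (π : A) (hπ : π ≠ 0)
    (h : ∀ w, f w ∈ Ideal.span {π}) : ∃ f' : W →ₗ[A] A, ∀ w, f w = π * f' w := by
  let e := LinearEquiv.toSpanNonzeroSingleton A A π hπ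
  refine ⟨e.symm.toLinearMap ∘ₗ f.codRestrict (Ideal.span {π}) h, fun w => ?_⟩
  have h1 : e (e.symm ⟨f w, h w⟩) = ⟨f w, h w⟩ := e.apply_symm_apply _
  have h2 := congrArg Subtype.val h1
  have h3 : ((e (e.symm ⟨f w, h w⟩) : Submodule.span A {π}) : A) = (e.symm ⟨f w, h w⟩) • π := rfl
  rw [h3, smul_eq_mul] at h2
  rw [mul_comm]
  exact h2.symm

include htf in
theorem nonempty_equiv_of_ufd [IsNoetherianRing A] [UniqueFactorizationMonoid A]
    [Module.Finite A W] [Nontrivial W]
    (hend : ∀ u : W →ₗ[A] W, ∃ a : A, ∀ w, u w = a • w)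
    (hext : ∀ J : Ideal A, (∀ q : Ideal A, q.IsPrime → J ≤ q → 2 ≤ q.height) →
      ∀ φ : J →ₗ[A] W, ∃ w : W, ∀ x : J, φ x = (x : A) • w) :
    Nonempty (A ≃ₗ[A] W) := by
  obtain ⟨x0, hx0⟩ := exists_ne (0 : W)
  obtain ⟨f0, hf0⟩ := Groth.Agent.S2218.exists_functional_ne_zero htf x0 hx0
  -- a linear form with minimal value at `x0`
  let S : Set A := {r | ∃ f : W →ₗ[A] A, f ≠ 0 ∧ f x0 = r}
  have hS : S.Nonempty := ⟨f0 x0, f0, hf0, rfl⟩
  obtain ⟨r, ⟨f, hf, rfl⟩, hmin⟩ :=
    (wellFounded_dvdNotUnit (α := A)).has_min S hS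
  have hinj := injective_of_ne_zero htf hend f hf
  have hfx0 : f x0 ≠ 0 := fun h => hx0 (hinj (by rw [h, map_zero]))
  have hht : ∀ q : Ideal A, q.IsPrime → LinearMap.range f ≤ q → 2 ≤ q.height := by
    intro q hq hle
    by_contra hlt
    have h1 : q.height ≤ 1 := by
      rw [not_le] at hlt
      exact Order.le_of_lt_add_one (by simpa [one_add_one_eq_two] using hlt)
    have h0 : q ≠ ⊥ := by
      rintro rfl
      exact hfx0 (by simpa using hle ⟨x0, rfl⟩)
    have h2 : q.height = 1 := by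
      refine le_antisymm h1 ?_
      rw [ENat.one_le_iff_ne_zero]
      exact fun h3 => h0 (Ideal.height_eq_zero_iff_eq_bot.1 h3)
    have h3 := UniqueFactorizationMonoid.isPrincipal_of_height_eq_one h2
    obtain ⟨π, hπ⟩ := h3
    have hπ0 : π ≠ 0 := by
      rintro rfl
      exact h0 (by rw [hπ]; simp)
    obtain ⟨f', hf'⟩ := exists_div f π hπ0 fun w => by
      have := hle ⟨w, rfl⟩
      rw [hπ] at this
      exact this
    have hf'0 : f' ≠ 0 := by
      rintro rfl
      exact hfx0 (by rw [hf', LinearMap.zero_apply, mul_zero])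
    refine hmin (f' x0) ⟨f', hf'0, rfl⟩ ⟨fun h => hfx0 (by rw [hf', h, mul_zero]), π, ?_, ?_⟩
    · intro hu
      apply hq.ne_top
      rw [hπ]
      exact Ideal.span_singleton_eq_top.2 hu
    · rw [hf', mul_comm]
  obtain ⟨w, hw⟩ := hext (LinearMap.range f) hht (LinearEquiv.ofInjective f hinj).symm.toLinearMap
  have hw' : ∀ v : W, v = f v • w := by
    intro v
    have h1 := hw ⟨f v, v, rfl⟩
    rw [← h1]
    exact ((LinearEquiv.ofInjective f hinj).symm_apply_apply v).symm
  have hw0 : w ≠ 0 := by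
    rintro rfl
    exact hx0 (by rw [hw' x0, smul_zero])
  refine ⟨LinearEquiv.ofBijective (LinearMap.toSpanSingleton A W w) ⟨?_, fun v => ⟨f v, ?_⟩⟩⟩
  · rw [injective_iff_map_eq_zero]
    intro a ha
    rcases htf a w ha with h | h
    · exact h
    · exact absurd h hw0
  · exact (hw' v).symm

end Algebra

section Dualizing

open Groth.Agent

variable (A : Type u) [CommRing A] [IsLocalRing A] [IsNoetherianRing A]

theorem exists_normalized (h : ∃ ω : Dual.D A, Dual.IsDualizing A ω) :
    ∃ ω : Dual.D A, Dual.IsDualizing A ω ∧ Dual.IsNormalized A ω := by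
  obtain ⟨ω, hω⟩ := h
  obtain ⟨n, h1, -⟩ := Groth.Agent.S0364.result A ω hω (IsLocalRing.maximalIdeal A)
  exact ⟨ω⟦n⟧, LoccohB.DualShift.isDualizing_shift _ hω n,
    LoccohB.DualShift.isNormalized_shift _ n h1⟩

/-- the dualizing module of a Cohen–Macaulay local ring -/
theorem exists_module (hcm : LocCoh.IsCohenMacaulayLocalRing A) (ω : Dual.D A)
    (hω : Dual.IsDualizing A ω) (hn : Dual.IsNormalized A ω) (d : ℕ) (hd : ringKrullDim A = d) :
    ∃ (W : ModuleCat.{u} A), Nonempty (ω ≅ (Dual.inD A W)⟦(d : ℤ)⟧) := by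
  have hd' : Module.supportDim A A = d := by rw [Module.supportDim_self_eq_ringKrullDim, hd]
  have h1 := (Groth.Agent.S0368.result A ω hω hn A d hd').1 hcm.supportDim_eq_depth
  have hge : ω.IsGE (-(d : ℤ)) := LoccohB.HomBC.isGE_of_subsingleton ω _ fun i hi => by
    have := h1 (-i) (by omega)
    rwa [neg_neg] at this
  have hle : ω.IsLE (-(d : ℤ)) := LoccohB.HomBC.isLE_of_subsingleton ω _ fun i hi => by
    have := h1 (-i) (by omega)
    rwa [neg_neg] at this
  obtain ⟨W, ⟨e⟩⟩ := DerivedCategory.exists_iso_singleFunctor_obj_of_isGE_of_isLE ω (-(d : ℤ))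
  exact ⟨W, ⟨e ≪≫ (((DerivedCategory.singleFunctors (ModuleCat.{u} A)).shiftIso (d : ℤ)
    (-(d : ℤ)) 0 (by omega)).app W).symm⟩⟩

/-- `Ext^i(M, W) = 0` for `i < d - dim M`. -/
theorem subsingleton_ext (ω : Dual.D A) (hω : Dual.IsDualizing A ω)
    (hn : Dual.IsNormalized A ω) (d : ℕ) (W : Type u) [AddCommGroup W] [Module A W]
    (e : ω ≅ (Dual.inD A W)⟦(d : ℤ)⟧) (M : Type u) [AddCommGroup M] [Module A M]
    [Module.Finite A M] (r i : ℕ) (hM : Module.supportDim A M ≤ r) (hi : r + i < d) :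
    Subsingleton (Abelian.Ext (ModuleCat.of A M) (ModuleCat.of A W) i) := by
  rw [← Localalg.DGor.subsingleton_hom_iff]
  have h1 := Localalg.DDual.subsingleton_of_lt hω hn M r hM ((i : ℤ) - d) (by omega)
  have h2 : ω⟦((i : ℤ) - d)⟧ ≅ (Dual.inD A W)⟦(i : ℤ)⟧ :=
    (shiftFunctor (Dual.D A) ((i : ℤ) - d)).mapIso e ≪≫
      ((shiftFunctorAdd' (Dual.D A) (d : ℤ) ((i : ℤ) - d) (i : ℤ) (by omega)).app
        (Dual.inD A W)).symm
  exact ((Iso.refl (Dual.inD A M)).homCongr h2).symm.subsingleton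

/-- the module of a dualizing complex concentrated in degree zero is finite -/
theorem finite_of_isDualizing (W : Type u) [AddCommGroup W] [Module A W]
    (h : Dual.IsDualizing A (Dual.inD A W)) : Module.Finite A W := by
  have h1 := h.finite_cohomology 0
  have e := ((DerivedCategory.singleFunctorCompHomologyFunctorIso
    (ModuleCat.{u} A) 0).app (ModuleCat.of A W)).toLinearEquiv
  have h2 : Module.Finite A ((𝟭 (ModuleCat.{u} A)).obj (ModuleCat.of A W)) :=
    @Module.Finite.equiv _ _ _ _ _ _ _ _ h1 e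
  exact h2

/-- endomorphisms of a dualizing module are scalars -/
theorem exists_scalar (W : Type u) [AddCommGroup W] [Module A W]
    (h : Dual.IsDualizing A (Dual.inD A W)) (u : W →ₗ[A] W) : ∃ a : A, ∀ w, u w = a • w := by
  obtain ⟨a, ha⟩ := h.toEnd_bijective.2
    ((DerivedCategory.singleFunctor (ModuleCat.{u} A) 0).map (ModuleCat.ofHom u))
  have h1 : (DerivedCategory.singleFunctor (ModuleCat.{u} A) 0).map
      (a • 𝟙 (ModuleCat.of A W)) =
      (DerivedCategory.singleFunctor (ModuleCat.{u} A) 0).map (ModuleCat.ofHom u) := by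
    rw [Functor.map_smul, CategoryTheory.Functor.map_id]
    exact ha
  have h2 := Functor.map_injective _ h1
  refine ⟨a, fun w => ?_⟩
  have h3 := congrArg (fun f : ModuleCat.of A W ⟶ ModuleCat.of A W => f.hom w) h2
  exact h3.symm

theorem le_sub_of_add_le (k d : ℕ) (x : WithBot ℕ∞) (hx : 0 ≤ x)
    (h : ((k : ℕ∞) : WithBot ℕ∞) + x ≤ d) : k ≤ d ∧ x ≤ ((d - k : ℕ) : WithBot ℕ∞) := by
  induction x with
  | bot => simp at hx
  | coe a =>
    induction a with
    | top =>
      exfalso
      have h1 : (((k : ℕ∞) + ⊤ : ℕ∞) : WithBot ℕ∞) ≤ ((d : ℕ∞) : WithBot ℕ∞) := by exact_mod_cast h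
      rw [WithBot.coe_le_coe] at h1
      simp at h1
    | coe n =>
      have h1 : k + n ≤ d := by exact_mod_cast h
      refine ⟨by omega, ?_⟩
      have h2 : n ≤ d - k := by omega
      change ((n : ℕ∞) : WithBot ℕ∞) ≤ (((d - k : ℕ) : ℕ∞) : WithBot ℕ∞)
      rw [WithBot.coe_le_coe]
      exact Nat.cast_le.2 h2

theorem isGorensteinLocalRing_of_ufd [IsDomain A] [UniqueFactorizationMonoid A]
    (hcm : LocCoh.IsCohenMacaulayLocalRing A) (h : ∃ ω : Dual.D A, Dual.IsDualizing A ω)
    (d : ℕ) (hd : ringKrullDim A = d) : LocCoh.IsGorensteinLocalRing A := by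
  obtain ⟨ω, hω, hn⟩ := exists_normalized A h
  obtain ⟨W, ⟨e⟩⟩ := exists_module A hcm ω hω hn d hd
  have hW : Dual.IsDualizing A (Dual.inD A W) := by
    have h1 := LoccohB.DualShift.isDualizing_shift _ (LoccohB.DualShift.isDualizing_of_iso e hω)
      (-(d : ℤ))
    exact LoccohB.DualShift.isDualizing_of_iso
      ((shiftFunctorCompIsoId (Dual.D A) (d : ℤ) (-(d : ℤ)) (by omega)).app (Dual.inD A W)) h1
  have hfin := finite_of_isDualizing A W hW
  have hend := exists_scalar A W hW
  have hnt : Nontrivial W := by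
    rw [← not_subsingleton_iff_nontrivial]
    intro hs
    have h1 := hW.toEnd_bijective.1
    have h2 : (𝟙 (Dual.inD A W)) = 0 := by
      have h3 : (𝟙 (ModuleCat.of A W)) = 0 := by ext x; exact Subsingleton.elim _ _
      have h4 := congrArg (fun f => (DerivedCategory.singleFunctor (ModuleCat.{u} A) 0).map f) h3
      simpa using h4
    exact one_ne_zero (h1 (a₁ := (1 : A)) (a₂ := 0) (by
      change (1 : A) • 𝟙 (Dual.inD A W) = (0 : A) • 𝟙 (Dual.inD A W)
      rw [h2, smul_zero, smul_zero]))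
  have htf : ∀ (r : A) (x : W), r • x = 0 → r = 0 ∨ x = 0 := by
    intro a x hax
    by_cases ha0 : a = 0
    · exact Or.inl ha0
    right
    by_cases hu : IsUnit a
    · exact (hu.smul_eq_zero).1 hax
    have h1 : ((1 : ℕ∞) : WithBot ℕ∞) + ringKrullDim (A ⧸ Ideal.span {a}) ≤ d := by
      rw [← hd]
      refine Groth.Agent.S2597.add_ringKrullDim_quotient_le A (Ideal.span {a}) 1 fun q hq hle => ?_
      rw [ENat.one_le_iff_ne_zero]
      intro h0
      rw [Ideal.height_eq_zero_iff_eq_bot] at h0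
      apply ha0
      have h2 := hle (Ideal.mem_span_singleton_self a)
      rw [h0] at h2
      simpa using h2
    have hne : Ideal.span {a} ≠ ⊤ := fun h => hu (Ideal.span_singleton_eq_top.1 h)
    have : Nontrivial (A ⧸ Ideal.span {a}) := Ideal.Quotient.nontrivial_iff.2 hne
    obtain ⟨hd1, hdim⟩ := le_sub_of_add_le 1 d (ringKrullDim (A ⧸ Ideal.span {a}))
      ringKrullDim_nonneg_of_nontrivial h1
    have h2 := subsingleton_ext A ω hω hn d W e (A ⧸ Ideal.span {a}) (d - 1) 0
      (by rw [Module.supportDim_quotient_eq_ringKrullDim]; exact hdim) (by omega)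
    have h3 : Subsingleton (ModuleCat.of A (A ⧸ Ideal.span {a}) ⟶ ModuleCat.of A W) :=
      Abelian.Ext.homEquiv₀.subsingleton_congr.1 h2
    have hle : Ideal.span {a} ≤ LinearMap.ker (LinearMap.toSpanSingleton A W x) := by
      rw [Ideal.span_singleton_le_iff_mem, LinearMap.mem_ker, LinearMap.toSpanSingleton_apply]
      exact hax
    let g : (A ⧸ Ideal.span {a}) →ₗ[A] W := Submodule.liftQ _ _ hle
    have h4 : ModuleCat.ofHom g = 0 := Subsingleton.elim _ _
    have h5 := congrArg (fun f : ModuleCat.of A (A ⧸ Ideal.span {a}) ⟶ ModuleCat.of A W =>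
      f.hom (Submodule.Quotient.mk 1)) h4
    have h6 : g (Submodule.Quotient.mk 1) = (1 : A) • x := rfl
    rw [one_smul] at h6
    rw [← h6]
    exact h5
  have hext : ∀ J : Ideal A, (∀ q : Ideal A, q.IsPrime → J ≤ q → 2 ≤ q.height) →
      ∀ φ : J →ₗ[A] W, ∃ w : W, ∀ x : J, φ x = (x : A) • w := by
    intro J hJ φ
    by_cases hne : J = ⊤
    · subst hne
      refine ⟨φ ⟨1, Submodule.mem_top⟩, fun x => ?_⟩
      rw [← map_smul]
      congr 1
      apply Subtype.ext
      change (x : A) = (x : A) • (1 : A)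
      rw [smul_eq_mul, mul_one]
    have : Nontrivial (A ⧸ J) := Ideal.Quotient.nontrivial_iff.2 hne
    have h1 : ((2 : ℕ∞) : WithBot ℕ∞) + ringKrullDim (A ⧸ J) ≤ d := by
      rw [← hd]
      exact Groth.Agent.S2597.add_ringKrullDim_quotient_le A J 2 hJ
    obtain ⟨hd1, hdim⟩ := le_sub_of_add_le 2 d (ringKrullDim (A ⧸ J))
      ringKrullDim_nonneg_of_nontrivial h1
    have h2 := subsingleton_ext A ω hω hn d W e (A ⧸ J) (d - 2) 1
      (by rw [Module.supportDim_quotient_eq_ringKrullDim]; exact hdim) (by omega)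
    obtain ⟨x, hx⟩ := Abelian.Ext.contravariant_sequence_exact₁
      (Localalg.InjDim.shortExact_ideal J) (ModuleCat.of A W)
      (Abelian.Ext.mk₀ (ModuleCat.ofHom φ)) (add_zero 1) (h2.elim _ _)
    obtain ⟨x, rfl⟩ := (Abelian.Ext.mk₀_bijective _ _).2 x
    rw [Abelian.Ext.mk₀_comp_mk₀] at hx
    have h3 := (Abelian.Ext.mk₀_bijective _ _).1 hx
    refine ⟨x.hom (1 : A), fun r => ?_⟩
    have h4 : x.hom (r : A) = φ r := congr($h3 r)
    rw [← h4]
    have h5 : (r : A) = (r : A) • (1 : A) := by rw [smul_eq_mul, mul_one]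
    conv_lhs => rw [h5]
    exact map_smul x.hom (r : A) (1 : A)
  obtain ⟨e'⟩ := nonempty_equiv_of_ufd htf hend hext
  have hA : Dual.IsDualizing A (Dual.inD A A) := LoccohB.DualShift.isDualizing_of_iso
    ((DerivedCategory.singleFunctor (ModuleCat.{u} A) 0).mapIso e'.symm.toModuleIso) hW
  exact { exists_hasInjectiveDimensionLT :=
    LoccohB.GorDesc.exists_hasInjectiveDimensionLT_of_isDualizing hA }

end Dualizing

end K710.UfdOmega
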